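import Groth.Agent.Lib.ModFlat.TensorAssoc
import Groth.Prelude.Def_ModSite

/-! # Invertible sheaves of modules on a site -/

set_option autoImplicit false
universe u

open CategoryTheory CategoryTheory.Limits MonoidalCategory GrothLib.SheafCoh

namespace GrothLib.ModInv25

open GrothLib.ModFlat

variable {C : Type u} [SmallCategory C] {J : GrothendieckTopology C} {O : Sheaf J CommRingCat.{u}}

variable (O) in
/-- Tensoring with the unit is the identity. -/
noncomputable def tensorUnitIso : (ModSite.tensorBi O).obj (ModSite.unit O) ≅ 𝟭 (ModSite.Mod O) :=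
  haveI := isIso_counit_shfAdj O
  NatIso.ofComponents
    (fun M => (shf O).mapIso (λ_ ((forgetP O).obj M)) ≪≫ (asIso (shfAdj O).counit).app M)
    (fun {M M'} f => by
      have h1 : ((forgetP O).obj (ModSite.unit O) ◁ (forgetP O).map f) ≫ (λ_ ((forgetP O).obj M')).hom =
          (λ_ ((forgetP O).obj M)).hom ≫ (forgetP O).map f := leftUnitor_naturality _
      change (shf O).map ((forgetP O).obj (ModSite.unit O) ◁ (forgetP O).map f) ≫
        (shf O).map (λ_ ((forgetP O).obj M')).hom ≫ (shfAdj O).counit.app M' =
          ((shf O).map (λ_ ((forgetP O).obj M)).hom ≫ (shfAdj O).counit.app M) ≫ f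
      refine ((shf O).map_comp_assoc _ _ _).symm.trans ((congrArg (fun k => (shf O).map k ≫
        (shfAdj O).counit.app M') h1).trans (((shf O).map_comp_assoc _ _ _).trans ?_))
      exact (congrArg (_ ≫ ·) ((shfAdj O).counit.naturality f)).trans (Category.assoc _ _ _).symm)

/-- Tensoring with `L ⊗ N` is tensoring with `N`, then with `L`. -/
noncomputable def tensorTensorIso (L N : ModSite.Mod O) :
    (ModSite.tensorBi O).obj (((ModSite.tensorBi O).obj L).obj N) ≅
      (ModSite.tensorBi O).obj N ⋙ (ModSite.tensorBi O).obj L :=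
  NatIso.ofComponents (fun P => tensorAssoc L N P) (fun h => tensorAssoc_natural₃ L N h)

theorem isEquivalence_tensor (L N : ModSite.Mod O) (hL : ((ModSite.tensorBi O).obj L).IsEquivalence)
    (hN : ((ModSite.tensorBi O).obj N).IsEquivalence) :
    ((ModSite.tensorBi O).obj (((ModSite.tensorBi O).obj L).obj N)).IsEquivalence :=
  Functor.isEquivalence_of_iso (tensorTensorIso L N).symm

theorem isEquivalence_T (L : ModSite.Mod O) (hL : ((ModSite.tensorBi O).obj L).IsEquivalence) :
    (T L).IsEquivalence :=
  Functor.isEquivalence_of_iso ((tensorSymm O).app L)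

theorem isIso_counit (L : ModSite.Mod O) (hL : ((ModSite.tensorBi O).obj L).IsEquivalence)
    [ModSite.HasSheafHom L] : IsIso (ModSite.sheafHomAdj L).counit :=
  have : ((ModSite.tensorBi O).flip.obj L).IsEquivalence := isEquivalence_T L hL
  have : (ModSite.sheafHom L).IsEquivalence :=
    (ModSite.sheafHomAdj L).isEquivalence_right_of_isEquivalence_left
  inferInstance

theorem isEquivalence_dual (L : ModSite.Mod O) (hL : ((ModSite.tensorBi O).obj L).IsEquivalence)
    [ModSite.HasSheafHom L] :
    ((ModSite.tensorBi O).obj ((ModSite.sheafHom L).obj (ModSite.unit O))).IsEquivalence := by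
  have := isIso_counit L hL
  let D := (ModSite.sheafHom L).obj (ModSite.unit O)
  let e : ((ModSite.tensorBi O).obj D).obj L ≅ ModSite.unit O :=
    (asIso (ModSite.sheafHomAdj L).counit).app (ModSite.unit O)
  have : ((ModSite.tensorBi O).obj L ⋙ (ModSite.tensorBi O).obj D).IsEquivalence :=
    Functor.isEquivalence_of_iso
      ((tensorTensorIso D L).symm ≪≫ (ModSite.tensorBi O).mapIso e ≪≫ tensorUnitIso O).symm
  exact Functor.isEquivalence_of_comp_left ((ModSite.tensorBi O).obj L) _

end GrothLib.ModInv25
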